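import Groth.Prelude.Def_Hensel
import Groth.Agent.Hensel.HenselizationDescent
import Groth.Agent.Hensel.HenselizationMisc
import Groth.Agent.WEtLib.Basic
import Mathlib.RingTheory.Flat.Localization

/-!
# Quotients of strict henselizations; flatness over a strict henselization
-/

set_option autoImplicit false
set_option linter.style.haveILetI false

universe u

open IsLocalRing

namespace Groth.Agent.Hensel

variable (R S : Type u) [CommRing R] [IsLocalRing R] [CommRing S] [IsLocalRing S] [Algebra R S]
  [IsLocalHom (algebraMap R S)] [Hensel.IsStrictHenselization R S]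

/-- The quotient of a strict henselization by the extension of an ideal is Noetherian iff the quotient is. -/
theorem isNoetherianRing_quotient_iff_strict (I : Ideal R) (hI : I ≠ ⊤) :
    IsNoetherianRing (R ⧸ I) ↔ IsNoetherianRing (S ⧸ I.map (algebraMap R S)) := by
  set J := I.map (algebraMap R S) with hJ
  have hJm : J ≤ maximalIdeal S := by
    refine Ideal.map_le_iff_le_comap.2 fun x hx => ?_
    exact map_nonunit (algebraMap R S) x (le_maximalIdeal hI hx)
  haveI : Nontrivial (R ⧸ I) := Ideal.Quotient.nontrivial_iff.2 hI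
  haveI : Nontrivial (S ⧸ J) :=
    Ideal.Quotient.nontrivial_iff.2 fun h => (maximalIdeal.isMaximal S).ne_top (top_le_iff.1 (h ▸ hJm))
  haveI : IsLocalRing (R ⧸ I) := .of_surjective' (Ideal.Quotient.mk I) Ideal.Quotient.mk_surjective
  haveI : IsLocalRing (S ⧸ J) := .of_surjective' (Ideal.Quotient.mk J) Ideal.Quotient.mk_surjective
  letI : Algebra (R ⧸ I) (S ⧸ J) := (Ideal.quotientMap J (algebraMap R S) Ideal.le_comap_map).toAlgebra
  haveI hlR : IsLocalHom (Ideal.Quotient.mk I) := IsLocalHom.of_surjective _ Ideal.Quotient.mk_surjective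
  haveI hlS : IsLocalHom (Ideal.Quotient.mk J) := IsLocalHom.of_surjective _ Ideal.Quotient.mk_surjective
  haveI : IsLocalHom (algebraMap (R ⧸ I) (S ⧸ J)) := ⟨fun x hx => by
    obtain ⟨r, rfl⟩ := Ideal.Quotient.mk_surjective x
    have h1 : IsUnit (Ideal.Quotient.mk J (algebraMap R S r)) := hx
    exact ((isUnit_map_iff (algebraMap R S) r).1 ((isUnit_map_iff (Ideal.Quotient.mk J) _).1 h1)).map _⟩
  haveI : HenselianLocalRing S := Hensel.IsStrictHenselization.henselian R
  haveI : HenselianLocalRing (S ⧸ J) := henselianLocalRing_of_finite S (S ⧸ J)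
  have hsq : (algebraMap (R ⧸ I) (S ⧸ J)).comp (Ideal.Quotient.mk I) =
      (Ideal.Quotient.mk J).comp (algebraMap R S) := rfl
  let eR : ResidueField R ≃+* ResidueField (R ⧸ I) := RingEquiv.ofBijective
    (ResidueField.map (Ideal.Quotient.mk I)) ⟨RingHom.injective _, by
      rintro ⟨x⟩; obtain ⟨r, rfl⟩ := Ideal.Quotient.mk_surjective x; exact ⟨residue R r, rfl⟩⟩
  let eS : ResidueField S ≃+* ResidueField (S ⧸ J) := RingEquiv.ofBijective
    (ResidueField.map (Ideal.Quotient.mk J)) ⟨RingHom.injective _, by
      rintro ⟨x⟩; obtain ⟨r, rfl⟩ := Ideal.Quotient.mk_surjective x; exact ⟨residue S r, rfl⟩⟩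
  have : Hensel.IsStrictHenselization (R ⧸ I) (S ⧸ J) := by
    obtain ⟨hsc, hsep⟩ := Hensel.IsStrictHenselization.isSepClosure (R := R) (S := S)
    refine ⟨inferInstance, ⟨isSepClosed_of_ringEquiv eS, ?_⟩, ?_⟩
    · exact Algebra.IsSeparable.of_equiv_equiv eR eS (by
        refine RingHom.ext fun x => ?_
        obtain ⟨r, rfl⟩ := residue_surjective x
        rfl)
    · intro T _ _ f _ τ hτ
      let τ' : ResidueField S →+* ResidueField T := τ.comp eS.toRingHom
      haveI : IsLocalHom (f.comp (Ideal.Quotient.mk I)) := ⟨fun x hx =>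
        (isUnit_map_iff (Ideal.Quotient.mk I) x).1 ((isUnit_map_iff f _).1 hx)⟩
      obtain ⟨g, ⟨hg1, hg2⟩, hu⟩ := Hensel.IsStrictHenselization.universal (R := R) (S := S) T
        (f.comp (Ideal.Quotient.mk I)) τ' (by
          refine RingHom.ext fun x => ?_
          obtain ⟨r, rfl⟩ := residue_surjective x
          exact RingHom.congr_fun hτ (residue (R ⧸ I) (Ideal.Quotient.mk I r)))
      have hgJ : ∀ x ∈ J, g x = 0 := by
        intro x hx
        have : J ≤ RingHom.ker g := by
          refine Ideal.map_le_iff_le_comap.2 fun r hr => ?_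
          show g (algebraMap R S r) = 0
          rw [show g (algebraMap R S r) = f (Ideal.Quotient.mk I r) from RingHom.congr_fun hg1 r,
            Ideal.Quotient.eq_zero_iff_mem.2 hr, map_zero]
        exact this hx
      refine ⟨Ideal.Quotient.lift J g hgJ, ⟨?_, ?_⟩, ?_⟩
      · refine Ideal.Quotient.ringHom_ext (RingHom.ext fun r => ?_)
        exact RingHom.congr_fun hg1 r
      · intro x
        obtain ⟨s, rfl⟩ := Ideal.Quotient.mk_surjective x
        exact hg2 s
      · intro g' hg'
        refine Ideal.Quotient.ringHom_ext (RingHom.ext fun s => ?_)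
        refine RingHom.congr_fun (hu (g'.comp (Ideal.Quotient.mk J)) ⟨?_, fun x => ?_⟩) s
        · refine RingHom.ext fun r => ?_
          exact RingHom.congr_fun hg'.1 (Ideal.Quotient.mk I r)
        · exact hg'.2 (Ideal.Quotient.mk J x)
  exact (isHenzLike_of_isStrictHenselization (R ⧸ I) (S ⧸ J)).isNoetherianRing_iff

/-- A module over a strict henselization which is flat over the ring is flat over the henselization. -/
theorem flat_of_flat_strict (R : Type u) [CommRing R] [IsLocalRing R] (S : Type u) [CommRing S]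
    [IsLocalRing S] [Algebra R S] [IsLocalHom (algebraMap R S)] [Hensel.IsStrictHenselization R S]
    (M : Type u) [AddCommGroup M] [Module R M] [Module S M] [IsScalarTower R S M] [Module.Flat R M] :
    Module.Flat S M := by
  classical
  obtain ⟨L, _, _, _, _, ⟨e⟩⟩ := isHenzLike_of_isStrictHenselization R S
  refine Module.Flat.of_forall_isTrivialRelation fun {l f x} hfx => ?_
  obtain ⟨N, -, hN⟩ := Henz.exists_of_finset (Classical.arbitrary (Nbhd R L))
    (Finset.univ.image fun i => e.symm (f i))
  choose y hy using fun i => hN (e.symm (f i)) (Finset.mem_image_of_mem _ (Finset.mem_univ i))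
  let c : N.Stage →ₐ[R] S := e.toAlgHom.comp (Henz.of N)
  have hc : ∀ i, c (y i) = f i := fun i => by simp [c, hy i]
  letI : Module N.Stage M := Module.compHom M c.toRingHom
  letI : Module N.B M := Module.compHom M (c.toRingHom.comp (algebraMap N.B N.Stage))
  haveI : IsScalarTower N.B N.Stage M :=
    IsScalarTower.of_algebraMap_smul fun _ _ => rfl
  haveI : IsScalarTower R N.B M := IsScalarTower.of_algebraMap_smul fun r m => by
    show c (algebraMap N.B N.Stage (algebraMap R N.B r)) • m = r • m
    rw [← IsScalarTower.algebraMap_apply R N.B N.Stage, c.commutes, algebraMap_smul]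
  haveI : Module.Flat N.B M := WEtLib.flat_of_flat (A := R) (B := N.B) M
  have := isLocalizedModule_id N.S M N.Stage
  haveI : Module.Flat N.Stage M := Module.Flat.of_isLocalizedModule N.Stage N.S (LinearMap.id (R := N.B) (M := M))
  obtain ⟨k, a, z, hz, ha⟩ :=
    Module.Flat.isTrivialRelation_of_sum_smul_eq_zero (f := y) (x := x) (by
      refine (Finset.sum_congr rfl fun i _ => ?_).trans hfx
      show c (y i) • x i = f i • x i
      rw [hc])
  refine ⟨k, fun i j => c (a i j), z, fun i => hz i, fun j => ?_⟩
  have h := congrArg c (ha j)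
  simpa [map_sum, map_mul, hc, smul_eq_mul] using h

end Groth.Agent.Hensel
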